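import Mathlib
import Groth.Prelude.Def_W4c1hilbchowincPtFun
import Groth.Agent.Lib.Helper11.EvalBridge
import Groth.Agent.Lib.Helper1.CompletionDim

/-!
# Testing a pointwise function along (complete) discrete valuation rings, ring-theoretically
-/

set_option autoImplicit false
universe u
open CategoryTheory AlgebraicGeometry W4c1hilbchowinc IsLocalRing
open Groth.Agent.Helper11

namespace Groth.Agent.Helper19.PtFunK

variable {A : Type u} [CommRing A]

/-- Unfolding the hypothesis `VariesAlongCompleteDVR` for a ring map `φ : A → S`. -/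
theorem test_complete (f : PtFun (Spec (CommRingCat.of A))) (hf : f.VariesAlongCompleteDVR)
    (S : Type u) [CommRing S] [IsDomain S] [IsDiscreteValuationRing S]
    [IsAdicComplete (maximalIdeal S) S] (φ : A →+* S) :
    ∃ r : S, ∀ (y : Spec (CommRingCat.of S)) (x : Spec (CommRingCat.of A)),
      (Spec.map (CommRingCat.ofHom φ)) y = x →
      ∃ ρ : (Spec (CommRingCat.of A)).residueField x →+* (Spec (CommRingCat.of S)).residueField y,
        (∀ a, ρ (UH.ev x a) = UH.ev y (φ a)) ∧ ρ (f x) = UH.ev y r := by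
  obtain ⟨s, hs⟩ := hf S (Spec.map (CommRingCat.ofHom φ))
  refine ⟨(Scheme.ΓSpecIso (CommRingCat.of S)).hom s, ?_⟩
  rintro y x rfl
  refine ⟨((Spec.map (CommRingCat.ofHom φ)).residueFieldMap y).hom,
    fun a => UH.ev_naturality φ y a, ?_⟩
  have h1 := congrFun hs y
  change (Spec (CommRingCat.of S)).Γevaluation y s = _ at h1
  change _ = (Spec (CommRingCat.of S)).Γevaluation y
    ((Scheme.ΓSpecIso (CommRingCat.of S)).inv ((Scheme.ΓSpecIso (CommRingCat.of S)).hom s))
  rw [show (Scheme.ΓSpecIso (CommRingCat.of S)).inv ((Scheme.ΓSpecIso (CommRingCat.of S)).hom s) = s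
    from by simp]
  exact h1.symm

theorem specMap_apply_eq {S : Type u} [CommRing S] (φ : A →+* S) (y : PrimeSpectrum S)
    (x : PrimeSpectrum A) (h : Ideal.comap φ y.asIdeal = x.asIdeal) :
    (Spec.map (CommRingCat.ofHom φ)) (show Spec (CommRingCat.of S) from y) =
      (show Spec (CommRingCat.of A) from x) := by
  apply PrimeSpectrum.ext
  exact h

/-- `T₁`: at the generic point. -/
theorem test_generic (f : PtFun (Spec (CommRingCat.of A))) (hf : f.VariesAlongCompleteDVR)
    (S : Type u) [CommRing S] [IsDomain S] [IsDiscreteValuationRing S]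
    [IsAdicComplete (maximalIdeal S) S] (φ : A →+* S) (x : Spec (CommRingCat.of A))
    (hker : RingHom.ker φ = x.asIdeal) (r₀ d : A)
    (hrd : f x * UH.ev x d = UH.ev x r₀) :
    ∃ r : S, r * φ d = φ r₀ := by
  obtain ⟨r, hr⟩ := test_complete f hf S φ
  refine ⟨r, ?_⟩
  let y₀ : PrimeSpectrum S := ⟨⊥, Ideal.bot_prime⟩
  obtain ⟨ρ, hρ1, hρ2⟩ := hr y₀ x (specMap_apply_eq φ y₀ x (by rw [← hker]; rfl))
  have h1 := congrArg ρ hrd
  rw [map_mul, hρ1, hρ1, hρ2, ← map_mul, ← sub_eq_zero, ← map_sub, UH.ev_eq_zero_iff] at h1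
  have h2 : r * φ d - φ r₀ ∈ (⊥ : Ideal S) := h1
  rwa [Ideal.mem_bot, sub_eq_zero] at h2

/-- `T₂`: from the generic point to the closed point. -/
theorem test_specialize (f : PtFun (Spec (CommRingCat.of A))) (hf : f.VariesAlongCompleteDVR)
    (S : Type u) [CommRing S] [IsDomain S] [IsDiscreteValuationRing S]
    [IsAdicComplete (maximalIdeal S) S] (φ : A →+* S) (x₀ x₁ : Spec (CommRingCat.of A))
    (hker : RingHom.ker φ = x₀.asIdeal)
    (hmax : Ideal.comap φ (maximalIdeal S) = x₁.asIdeal) (a : A)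
    (h0 : f x₀ = UH.ev x₀ a) : f x₁ = UH.ev x₁ a := by
  obtain ⟨r, hr⟩ := test_complete f hf S φ
  let y₀ : PrimeSpectrum S := ⟨⊥, Ideal.bot_prime⟩
  obtain ⟨ρ₀, hρ1, hρ2⟩ := hr y₀ x₀ (specMap_apply_eq φ y₀ x₀ (by rw [← hker]; rfl))
  obtain ⟨ρ₁, hσ1, hσ2⟩ := hr (closedPoint S) x₁ (specMap_apply_eq φ (closedPoint S) x₁ hmax)
  have h1 := congrArg ρ₀ h0
  rw [hρ1, hρ2, ← sub_eq_zero, ← map_sub, UH.ev_eq_zero_iff] at h1
  have h2 : r - φ a ∈ (⊥ : Ideal S) := h1
  rw [Ideal.mem_bot, sub_eq_zero] at h2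
  apply ρ₁.injective
  rw [hσ1, hσ2, h2]

section completion

variable (R : Type u) [CommRing R] [IsDomain R] [IsDiscreteValuationRing R]

theorem completion_facts :
    ∃ (_ : IsDomain (AdicCompletion (maximalIdeal R) R))
      (_ : IsDiscreteValuationRing (AdicCompletion (maximalIdeal R) R)),
      IsAdicComplete (maximalIdeal (AdicCompletion (maximalIdeal R) R))
        (AdicCompletion (maximalIdeal R) R) ∧
      Function.Injective (algebraMap R (AdicCompletion (maximalIdeal R) R)) ∧
      IsLocalHom (algebraMap R (AdicCompletion (maximalIdeal R) R)) := by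
  obtain ⟨hdom, hdvr⟩ := (Groth.Agent.Helper1.isDiscreteValuationRing_adicCompletion_iff R).mp
    ⟨inferInstance, inferInstance⟩
  exact ⟨hdom, hdvr, inferInstance, AdicCompletion.of_injective (maximalIdeal R) R, inferInstance⟩

/-- Version of `test_generic` for an arbitrary discrete valuation ring, via its completion. -/
theorem isUnit_of_generic (f : PtFun (Spec (CommRingCat.of A))) (hf : f.VariesAlongCompleteDVR)
    (φ : A →+* R) (x : Spec (CommRingCat.of A))
    (hker : RingHom.ker φ = x.asIdeal) (r₀ d : A)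
    (hrd : f x * UH.ev x d = UH.ev x r₀) (t : R) (ht : φ d = t * φ r₀) (h0 : φ r₀ ≠ 0) :
    IsUnit t := by
  obtain ⟨hdom, hdvr, hcomp, hc, hloc⟩ := completion_facts R
  let c := algebraMap R (AdicCompletion (maximalIdeal R) R)
  have hk : RingHom.ker (c.comp φ) = x.asIdeal := by
    rw [← hker]
    ext a
    simp only [RingHom.mem_ker, RingHom.comp_apply]
    exact map_eq_zero_iff c hc
  obtain ⟨r, hr⟩ := test_generic f hf (AdicCompletion (maximalIdeal R) R) (c.comp φ) x hk r₀ d hrd
  rw [RingHom.comp_apply, RingHom.comp_apply, ht, map_mul, ← mul_assoc] at hr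
  have hne : c (φ r₀) ≠ 0 := fun h => h0 (hc (by rw [h, map_zero]))
  have h1 : r * c t = 1 := mul_right_cancel₀ hne (by rw [hr, one_mul])
  have h2 : IsUnit (c t) := IsUnit.of_mul_eq_one r (by rw [mul_comm]; exact h1)
  exact (isUnit_map_iff c t).mp h2

/-- Version of `test_specialize` for an arbitrary discrete valuation ring, via its completion. -/
theorem specialize (f : PtFun (Spec (CommRingCat.of A))) (hf : f.VariesAlongCompleteDVR)
    (φ : A →+* R) (x₀ x₁ : Spec (CommRingCat.of A))
    (hker : RingHom.ker φ = x₀.asIdeal)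
    (hmax : Ideal.comap φ (maximalIdeal R) = x₁.asIdeal) (a : A)
    (h0 : f x₀ = UH.ev x₀ a) : f x₁ = UH.ev x₁ a := by
  obtain ⟨hdom, hdvr, hcomp, hc, hloc⟩ := completion_facts R
  let c := algebraMap R (AdicCompletion (maximalIdeal R) R)
  have hk : RingHom.ker (c.comp φ) = x₀.asIdeal := by
    rw [← hker]
    ext a
    simp only [RingHom.mem_ker, RingHom.comp_apply]
    exact map_eq_zero_iff c hc
  have hm : Ideal.comap (c.comp φ) (maximalIdeal (AdicCompletion (maximalIdeal R) R)) =
      x₁.asIdeal := by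
    rw [← hmax, ← Ideal.comap_comap]
    congr 1
    exact ((IsLocalRing.local_hom_TFAE c).out 0 4).mp hloc
  exact test_specialize f hf (AdicCompletion (maximalIdeal R) R) (c.comp φ) x₀ x₁ hk hm a h0

end completion

end Groth.Agent.Helper19.PtFunK
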