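import Mathlib
import Groth.Agent.Lib.Helper19.PtFun.Test
import Groth.Agent.Lib.Helper4.DVRDom

/-!
# Values of a pointwise function varying along complete DVRs are integral
-/

set_option autoImplicit false
universe u
open CategoryTheory AlgebraicGeometry W4c1hilbchowinc IsLocalRing
open Groth.Agent.Helper11

namespace Groth.Agent.Helper19.PtFunK

variable {A : Type u} [CommRing A]

set_option maxHeartbeats 800000 in
/-- `KL1`: the value at any point is integral over `A`. -/
theorem isIntegralElem_value [IsNoetherianRing A] (f : PtFun (Spec (CommRingCat.of A)))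
    (hf : f.VariesAlongCompleteDVR) (x : Spec (CommRingCat.of A)) :
    (UH.ev x).IsIntegralElem (f x) := by
  classical
  by_contra hnot
  letI : Algebra A ((Spec (CommRingCat.of A)).residueField x) := (UH.ev x).toAlgebra
  have hα0 : f x ≠ 0 := by
    intro h
    apply hnot
    rw [h]
    exact (UH.ev x).isIntegralElem_zero
  have hN : IsNoetherianRing (Algebra.adjoin A ({(f x)⁻¹} :
      Set ((Spec (CommRingCat.of A)).residueField x))) := by
    have := Groth.Agent.Helper4.DVRDom.isNoetherianRing_adjoin A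
      ({(f x)⁻¹} : Finset ((Spec (CommRingCat.of A)).residueField x))
    rwa [Finset.coe_singleton] at this
  have hinj : Function.Injective (algebraMap (Algebra.adjoin A ({(f x)⁻¹} :
      Set ((Spec (CommRingCat.of A)).residueField x)))
      ((Spec (CommRingCat.of A)).residueField x)) := Subtype.val_injective
  have hS : Subfield.closure (Set.range (algebraMap (Algebra.adjoin A ({(f x)⁻¹} :
      Set ((Spec (CommRingCat.of A)).residueField x)))
      ((Spec (CommRingCat.of A)).residueField x)) ∪
      ((∅ : Finset ((Spec (CommRingCat.of A)).residueField x)) :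
        Set ((Spec (CommRingCat.of A)).residueField x))) = ⊤ := by
    rw [Finset.coe_empty, Set.union_empty, eq_top_iff]
    intro θ _
    obtain ⟨r, d, hd, hrd⟩ := UH.ev_surj x θ
    have hd0 : UH.ev x d ≠ 0 := fun h => hd ((UH.ev_eq_zero_iff x d).mp h)
    have hθ : θ = UH.ev x r / UH.ev x d := by
      rw [eq_div_iff hd0]
      exact hrd
    rw [hθ]
    exact Subfield.div_mem _ (Subfield.subset_closure ⟨algebraMap A _ r, rfl⟩)
      (Subfield.subset_closure ⟨algebraMap A _ d, rfl⟩)
  let t : Algebra.adjoin A ({(f x)⁻¹} : Set ((Spec (CommRingCat.of A)).residueField x)) :=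
    ⟨(f x)⁻¹, Algebra.subset_adjoin rfl⟩
  have ht0 : t ≠ 0 := by
    intro h
    have := congrArg Subtype.val h
    exact inv_ne_zero hα0 this
  have hI : Ideal.span {t} ≠ ⊤ := by
    intro htop
    apply hnot
    haveI : Invertible (f x)⁻¹ := invertibleOfNonzero (inv_ne_zero hα0)
    have hbot : (⊥ : Ideal A) ≠ ⊤ := by
      intro h
      exact x.isPrime.ne_top (top_le_iff.mp (h ▸ bot_le))
    obtain ⟨p, hp1, hp2⟩ := Algebra.exists_aeval_invOf_eq_zero_of_idealMap_adjoin_sup_span_eq_top
      (R := A) ((f x)⁻¹) ⊥ hbot (by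
        rw [eq_top_iff, ← htop]
        exact le_sup_right)
    rw [Ideal.mem_bot, sub_eq_zero] at hp1
    rw [invOf_eq_inv, inv_inv] at hp2
    exact ⟨p, hp1, hp2⟩
  obtain ⟨R, hdvr, hR, hnon⟩ := Groth.Agent.Helper4.DVRDom.exists_dvr
    (Algebra.adjoin A ({(f x)⁻¹} : Set ((Spec (CommRingCat.of A)).residueField x)))
    hinj ∅ hS (Ideal.span {t}) hI t (Ideal.mem_span_singleton_self t) ht0
  let φ : A →+* R := (UH.ev x).codRestrict R (fun a => hR (algebraMap A _ a))
  have hker : RingHom.ker φ = x.asIdeal := by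
    ext a
    rw [RingHom.mem_ker, ← UH.ev_eq_zero_iff x a]
    constructor
    · intro h
      exact congrArg Subtype.val h
    · intro h
      exact Subtype.ext h
  obtain ⟨r₀, d, hd, hrd⟩ := UH.ev_surj x (f x)
  have hd0 : UH.ev x d ≠ 0 := fun h => hd ((UH.ev_eq_zero_iff x d).mp h)
  let t' : R := ⟨(f x)⁻¹, hR t⟩
  have ht : φ d = t' * φ r₀ := by
    apply Subtype.ext
    change UH.ev x d = (f x)⁻¹ * UH.ev x r₀
    rw [← hrd, inv_mul_cancel_left₀ hα0]
  have h0 : φ r₀ ≠ 0 := by
    intro h
    have h1 : UH.ev x r₀ = 0 := congrArg Subtype.val h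
    rw [← hrd] at h1
    exact mul_ne_zero hα0 hd0 h1
  have hunit := isUnit_of_generic R f hf φ x hker r₀ d hrd t' ht h0
  have hmem : ((t' : R) : (Spec (CommRingCat.of A)).residueField x) ∈ R.nonunits :=
    hnon t (Ideal.mem_span_singleton_self t)
  rw [ValuationSubring.coe_mem_nonunits_iff] at hmem
  exact (IsLocalRing.mem_maximalIdeal _).mp hmem hunit

end Groth.Agent.Helper19.PtFunK
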