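import Mathlib
import Groth.Agent.Lib.Helper19.PtFun.Integral

/-!
# The element of the total ring of fractions attached to a pointwise function
-/

set_option autoImplicit false
universe u
open CategoryTheory AlgebraicGeometry W4c1hilbchowinc IsLocalRing
open Groth.Agent.Helper11

namespace Groth.Agent.Helper19.PtFunK

variable {A : Type u} [CommRing A]

theorem eq_zero_of_forall_mem_minimalPrimes [IsReduced A] (t : A)
    (h : ∀ p ∈ minimalPrimes A, t ∈ p) : t = 0 := by
  have h1 : t ∈ sInf (minimalPrimes A) := by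
    rw [Ideal.mem_sInf]
    exact fun {p} hp => h p hp
  rw [minimalPrimes, Ideal.sInf_minimalPrimes] at h1
  have h2 : t ∈ nilradical A := h1
  rwa [nilradical_eq_zero, Ideal.zero_eq_bot, Ideal.mem_bot] at h2

theorem mem_nonZeroDivisors_of_forall_notMem [IsReduced A] (D : A)
    (h : ∀ p ∈ minimalPrimes A, D ∉ p) : D ∈ nonZeroDivisors A := by
  rw [mem_nonZeroDivisors_iff_right]
  intro t ht
  apply eq_zero_of_forall_mem_minimalPrimes
  intro p hp
  have h1 : t * D ∈ p := by rw [ht]; exact p.zero_mem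
  exact ((Ideal.minimalPrimes_isPrime hp).mem_or_mem h1).resolve_right (h p hp)

theorem exists_avoid [IsNoetherianRing A] (p : Ideal A) (hp : p ∈ minimalPrimes A) :
    ∃ e : A, e ∉ p ∧ ∀ q ∈ minimalPrimes A, q ≠ p → e ∈ q := by
  classical
  have hfin := minimalPrimes.finite_of_isNoetherianRing A
  have h1 : ∀ q ∈ minimalPrimes A, q ≠ p → ∃ t ∈ q, t ∉ p := by
    intro q hq hne
    by_contra hcon
    push Not at hcon
    have hle : q ≤ p := hcon
    have h2 := hp.2 ⟨Ideal.minimalPrimes_isPrime hq, bot_le⟩ hle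
    exact hne (le_antisymm hle h2)
  choose! t ht using h1
  refine ⟨∏ q ∈ hfin.toFinset.erase p, t q, ?_, ?_⟩
  · intro hmem
    rw [(Ideal.minimalPrimes_isPrime hp).prod_mem_iff] at hmem
    obtain ⟨q, hq, hqp⟩ := hmem
    rw [Finset.mem_erase, Set.Finite.mem_toFinset] at hq
    exact (ht q hq.2 hq.1).2 hqp
  · intro q hq hne
    have hmem : q ∈ hfin.toFinset.erase p :=
      Finset.mem_erase.mpr ⟨hne, hfin.mem_toFinset.mpr hq⟩
    exact Ideal.mem_of_dvd _ (Finset.dvd_prod_of_mem _ hmem) (ht q hq hne).1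

section main

variable [IsReduced A] [IsNoetherianRing A] (Q : Type u) [CommRing Q] [Algebra A Q]
  [IsFractionRing A Q]

/-- The point of `Spec A` attached to a minimal prime. -/
def minPt (i : minimalPrimes A) : Spec (CommRingCat.of A) :=
  (⟨i.1, Ideal.minimalPrimes_isPrime i.2⟩ : PrimeSpectrum A)

omit [IsReduced A] [IsNoetherianRing A] in
theorem isUnit_ev_of_mem_nonZeroDivisors (i : minimalPrimes A) (s : nonZeroDivisors A) :
    IsUnit (UH.ev (minPt i) (s : A)) := by
  rw [isUnit_iff_ne_zero, Ne, UH.ev_eq_zero_iff]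
  intro h
  exact Set.disjoint_left.mp (Ideal.disjoint_nonZeroDivisors_of_mem_minimalPrimes i.2) h s.2

/-- Evaluation of a fraction at a minimal prime. -/
noncomputable def evQ (i : minimalPrimes A) :
    Q →+* (Spec (CommRingCat.of A)).residueField (minPt i) :=
  IsLocalization.lift (M := nonZeroDivisors A) (g := UH.ev (minPt i))
    (isUnit_ev_of_mem_nonZeroDivisors i)

omit [IsReduced A] [IsNoetherianRing A] in
theorem evQ_algebraMap (i : minimalPrimes A) (a : A) :
    evQ Q i (algebraMap A Q a) = UH.ev (minPt i) a :=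
  IsLocalization.lift_eq _ a

omit [IsNoetherianRing A] in
theorem eq_zero_of_forall_evQ (z : Q) (h : ∀ i : minimalPrimes A, evQ Q i z = 0) : z = 0 := by
  obtain ⟨n, s, rfl⟩ := IsLocalization.exists_mk'_eq (nonZeroDivisors A) z
  have hn : n = 0 := by
    apply eq_zero_of_forall_mem_minimalPrimes
    intro p hp
    have h1 := h ⟨p, hp⟩
    have h2 := congrArg (evQ Q ⟨p, hp⟩) (IsLocalization.mk'_spec Q n s)
    rw [map_mul, h1, zero_mul, evQ_algebraMap] at h2
    exact (UH.ev_eq_zero_iff _ n).mp h2.symm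
  rw [hn, IsLocalization.mk'_zero]

set_option maxHeartbeats 800000 in
/-- `KL2`: an integral element of the total ring of fractions with the prescribed values at the
minimal primes. -/
theorem exists_integral_fraction (f : PtFun (Spec (CommRingCat.of A)))
    (hf : f.VariesAlongCompleteDVR) :
    ∃ β : Q, IsIntegral A β ∧ ∀ (i : minimalPrimes A) (n s : A),
      β * algebraMap A Q s = algebraMap A Q n →
      f (minPt i) * UH.ev (minPt i) s = UH.ev (minPt i) n := by
  classical
  haveI : Fintype (minimalPrimes A) := (minimalPrimes.finite_of_isNoetherianRing A).fintype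
  have hsurj : ∀ i : minimalPrimes A, ∃ r d : A, d ∉ (minPt i).asIdeal ∧
      f (minPt i) * UH.ev (minPt i) d = UH.ev (minPt i) r :=
    fun i => UH.ev_surj (minPt i) (f (minPt i))
  choose r d hd hrd using hsurj
  have hint : ∀ i : minimalPrimes A, ∃ P : Polynomial A, P.Monic ∧
      P.eval₂ (UH.ev (minPt i)) (f (minPt i)) = 0 :=
    fun i => isIntegralElem_value f hf (minPt i)
  choose P hPm hP0 using hint
  have hav : ∀ i : minimalPrimes A, ∃ e : A, e ∉ i.1 ∧
      ∀ q ∈ minimalPrimes A, q ≠ i.1 → e ∈ q := fun i => exists_avoid i.1 i.2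
  choose e he1 he2 using hav
  have hevN : ∀ i, UH.ev (minPt i) (∑ j, e j * r j) =
      UH.ev (minPt i) (e i) * UH.ev (minPt i) (r i) := by
    intro i
    simp only [map_sum, map_mul]
    rw [Finset.sum_eq_single i]
    · intro j _ hji
      have hmem : e j ∈ i.1 := he2 j i.1 i.2 (fun h => hji (Subtype.ext h).symm)
      rw [(UH.ev_eq_zero_iff (minPt i) (e j)).mpr hmem, zero_mul]
    · intro h
      exact absurd (Finset.mem_univ i) h
  have hevD : ∀ i, UH.ev (minPt i) (∑ j, e j * d j) =
      UH.ev (minPt i) (e i) * UH.ev (minPt i) (d i) := by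
    intro i
    simp only [map_sum, map_mul]
    rw [Finset.sum_eq_single i]
    · intro j _ hji
      have hmem : e j ∈ i.1 := he2 j i.1 i.2 (fun h => hji (Subtype.ext h).symm)
      rw [(UH.ev_eq_zero_iff (minPt i) (e j)).mpr hmem, zero_mul]
    · intro h
      exact absurd (Finset.mem_univ i) h
  have hee : ∀ i, UH.ev (minPt i) (e i) ≠ 0 :=
    fun i h => he1 i ((UH.ev_eq_zero_iff _ _).mp h)
  have hdd : ∀ i, UH.ev (minPt i) (d i) ≠ 0 :=
    fun i h => hd i ((UH.ev_eq_zero_iff _ _).mp h)
  have hDmem : (∑ j, e j * d j) ∈ nonZeroDivisors A := by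
    apply mem_nonZeroDivisors_of_forall_notMem
    intro p hp hDp
    have h1 := (UH.ev_eq_zero_iff (minPt ⟨p, hp⟩) (∑ j, e j * d j)).mpr hDp
    rw [hevD] at h1
    exact mul_ne_zero (hee _) (hdd _) h1
  have hβ : ∀ i, evQ Q i (IsLocalization.mk' Q (∑ j, e j * r j)
      (⟨∑ j, e j * d j, hDmem⟩ : nonZeroDivisors A)) = f (minPt i) := by
    intro i
    have h1 := congrArg (evQ Q i) (IsLocalization.mk'_spec Q (∑ j, e j * r j)
      (⟨∑ j, e j * d j, hDmem⟩ : nonZeroDivisors A))
    rw [map_mul, evQ_algebraMap, evQ_algebraMap, hevN, hevD, ← hrd] at h1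
    have h2 : evQ Q i (IsLocalization.mk' Q (∑ j, e j * r j)
        (⟨∑ j, e j * d j, hDmem⟩ : nonZeroDivisors A)) *
        (UH.ev (minPt i) (e i) * UH.ev (minPt i) (d i)) =
        f (minPt i) * (UH.ev (minPt i) (e i) * UH.ev (minPt i) (d i)) := by
      rw [h1]; ring
    exact mul_right_cancel₀ (mul_ne_zero (hee i) (hdd i)) h2
  refine ⟨IsLocalization.mk' Q (∑ j, e j * r j) (⟨∑ j, e j * d j, hDmem⟩ : nonZeroDivisors A),
    ⟨∏ i, P i, Polynomial.monic_prod_of_monic _ _ (fun i _ => hPm i), ?_⟩, ?_⟩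
  · apply eq_zero_of_forall_evQ (A := A) Q
    intro i
    rw [Polynomial.hom_eval₂, hβ]
    have hcomp : (evQ Q i).comp (algebraMap A Q) = UH.ev (minPt i) :=
      RingHom.ext (evQ_algebraMap Q i)
    rw [hcomp, Polynomial.eval₂_finset_prod]
    exact Finset.prod_eq_zero (Finset.mem_univ i) (hP0 i)
  · intro i n s h
    have h1 := congrArg (evQ Q i) h
    rwa [map_mul, evQ_algebraMap, evQ_algebraMap, hβ] at h1

end main

end Groth.Agent.Helper19.PtFunK
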