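import Mathlib
import Groth.Agent.Lib.Helper19.PtFun.Fraction
import Groth.Agent.Lib.Helper19.HTop.SemiN
import Groth.Agent.Lib.Helper4.DVRSpec

/-!
# Pointwise functions varying along complete DVRs on normal Noetherian rings are algebraic
-/

set_option autoImplicit false
universe u
open CategoryTheory AlgebraicGeometry W4c1hilbchowinc IsLocalRing
open Groth.Agent.Helper11

namespace Groth.Agent.Helper19.PtFunK

variable {A : Type u} [CommRing A]

set_option maxHeartbeats 800000 in
/-- `KL3`: agreement at the minimal primes propagates to all points. -/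
theorem all_points [IsNoetherianRing A] (f : PtFun (Spec (CommRingCat.of A)))
    (hf : f.VariesAlongCompleteDVR) (a : A)
    (h0 : ∀ i : minimalPrimes A, f (minPt i) = UH.ev (minPt i) a)
    (x : Spec (CommRingCat.of A)) : f x = UH.ev x a := by
  obtain ⟨p, hp, hle⟩ := Ideal.exists_minimalPrimes_le (I := ⊥) (J := x.asIdeal) bot_le
  by_cases hx : x = minPt ⟨p, hp⟩
  · rw [hx]
    exact h0 ⟨p, hp⟩
  have hid : (𝟙 (Spec (CommRingCat.of A)) : _ ⟶ _).base (minPt ⟨p, hp⟩) = minPt ⟨p, hp⟩ := by
    simp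
  have hsp : (𝟙 (Spec (CommRingCat.of A)) : _ ⟶ _).base (minPt ⟨p, hp⟩) ⤳ x := by
    rw [hid]
    exact (PrimeSpectrum.le_iff_specializes (minPt ⟨p, hp⟩ : PrimeSpectrum A) x).mp hle
  obtain ⟨R, h, hdvr, hclosed, hcomm⟩ :=
    Groth.Agent.Helper4.DVRSpec.exists_dvr_through_specialization
      (𝟙 (Spec (CommRingCat.of A))) (minPt ⟨p, hp⟩) x hsp (by rw [hid]; exact hx)
  obtain ⟨ψ, rfl⟩ : ∃ ψ, Spec.map ψ = h := ⟨Spec.preimage h, Spec.map_preimage h⟩
  have hmax : Ideal.comap ψ.hom (maximalIdeal R) = x.asIdeal :=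
    congrArg PrimeSpectrum.asIdeal hclosed
  have hker : RingHom.ker ψ.hom = (minPt ⟨p, hp⟩).asIdeal := by
    have h1 := congr($(hcomm) (IsLocalRing.closedPoint _))
    simp only [Scheme.Hom.comp_apply, Scheme.fromSpecResidueField_apply, Category.comp_id] at h1
    have h2 := congrArg PrimeSpectrum.asIdeal h1
    rw [← h2]
    change _ = Ideal.comap ψ.hom (Ideal.comap R.subtype _)
    rw [RingHom.ker_eq_comap_bot]
    congr 1
    ext r
    rw [Ideal.mem_bot, Ideal.mem_comap]
    constructor
    · rintro rfl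
      rw [map_zero]
      exact Ideal.zero_mem _
    · intro hr
      have hb : (IsLocalRing.closedPoint ((Spec (CommRingCat.of A)).residueField
          (minPt ⟨p, hp⟩))).asIdeal = ⊥ := Ideal.eq_bot_of_prime _
      rw [hb, Ideal.mem_bot] at hr
      exact Subtype.ext hr
  exact specialize R f hf ψ.hom (minPt ⟨p, hp⟩) x hker hmax a (h0 ⟨p, hp⟩)

/-- **Theorem K.** -/
theorem exists_eq_ev [IsReduced A] [IsNoetherianRing A] [IsIntegrallyClosed A]
    (f : PtFun (Spec (CommRingCat.of A))) (hf : f.VariesAlongCompleteDVR) :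
    ∃ a : A, ∀ x, f x = UH.ev x a := by
  obtain ⟨β, hβint, hβ⟩ := exists_integral_fraction (FractionRing A) f hf
  obtain ⟨a, ha⟩ := IsIntegrallyClosed.algebraMap_eq_of_integral hβint
  refine ⟨a, all_points f hf a (fun i => ?_)⟩
  have h1 := hβ i a 1 (by rw [map_one, mul_one, ha])
  rwa [map_one, mul_one] at h1

/-- From a ring element with the right values to the unique global section. -/
theorem existsUnique_of_exists [IsReduced A] (f : PtFun (Spec (CommRingCat.of A)))
    (h : ∃ a : A, ∀ x, f x = UH.ev x a) :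
    ∃! s : Γ(Spec (CommRingCat.of A), ⊤), PtFun.ofSection (Spec (CommRingCat.of A)) s = f := by
  obtain ⟨a, ha⟩ := h
  refine ⟨(Scheme.ΓSpecIso (CommRingCat.of A)).inv a, ?_, ?_⟩
  · funext x
    exact (ha x).symm
  · intro s hs
    rw [← sub_eq_zero]
    apply Groth.Agent.Helper19.HTopSN.eq_zero_of_forall_Γevaluation
    intro x
    rw [map_sub, sub_eq_zero]
    have h1 := congrFun hs x
    change (Spec (CommRingCat.of A)).Γevaluation x s = _ at h1
    rw [h1, ha x]
    rfl

theorem variesAlongCompleteDVR_of_variesAlongDVR {X : Scheme.{u}} (f : PtFun X)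
    (hf : f.VariesAlongDVR) : f.VariesAlongCompleteDVR :=
  fun R _ _ _ _ g => hf R g

end Groth.Agent.Helper19.PtFunK
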