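import Mathlib
import Groth.Agent.Lib.Helper19.PtFun.Main
import Groth.Agent.Lib.Helper19.SNIso

/-!
# Pointwise functions varying along complete DVRs on seminormal Noetherian rings are algebraic
-/

set_option autoImplicit false
universe u
open CategoryTheory AlgebraicGeometry W4c1hilbchowinc IsLocalRing
open Groth.Agent.Helper11

namespace Groth.Agent.Helper19.PtFunK

/-- An intermediate ring between `A` and its total ring of fractions has the same total ring of
fractions. -/
theorem isFractionRing_subalgebra {A Q : Type*} [CommRing A] [CommRing Q] [Algebra A Q]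
    [IsFractionRing A Q] (B : Subalgebra A Q) : IsFractionRing B Q := by
  have hunit : ∀ d : nonZeroDivisors A, IsUnit (algebraMap A Q d) :=
    fun d => IsLocalization.map_units Q d
  refine
    { map_units := ?_
      surj := ?_
      exists_of_eq := ?_ }
  · rintro ⟨s, hs⟩
    obtain ⟨n, d, hnd⟩ := IsLocalization.exists_mk'_eq (nonZeroDivisors A) ((s : B) : Q)
    have hsd : ((s : B) : Q) * algebraMap A Q d = algebraMap A Q n := by
      rw [← hnd, IsLocalization.mk'_spec]
    have hn : n ∈ nonZeroDivisors A := by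
      rw [mem_nonZeroDivisors_iff_right]
      intro t ht
      have h1 : ((algebraMap A B t * s : B) : Q) * algebraMap A Q d = 0 := by
        have : ((algebraMap A B t * s : B) : Q) = algebraMap A Q t * (s : Q) := rfl
        rw [this, mul_assoc, hsd, ← map_mul, ht, map_zero]
      have h2 : ((algebraMap A B t * s : B) : Q) = 0 := (hunit d).mul_left_eq_zero.mp h1
      have h3 : algebraMap A B t * s = 0 := Subtype.ext h2
      have h4 : algebraMap A B t = 0 := (mul_right_mem_nonZeroDivisors_eq_zero_iff hs).mp h3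
      have h5 : algebraMap A Q t = 0 := congrArg Subtype.val h4
      exact (IsFractionRing.injective A Q) (by rw [h5, map_zero])
    have h6 : IsUnit (((s : B) : Q) * algebraMap A Q d) := by
      rw [hsd]
      exact hunit ⟨n, hn⟩
    exact isUnit_of_mul_isUnit_left h6
  · intro z
    obtain ⟨n, d, hnd⟩ := IsLocalization.exists_mk'_eq (nonZeroDivisors A) z
    have hd : algebraMap A B d ∈ nonZeroDivisors B := by
      rw [mem_nonZeroDivisors_iff_right]
      intro t ht
      have h1 : (t : Q) * algebraMap A Q d = 0 := congrArg Subtype.val ht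
      exact Subtype.ext ((hunit d).mul_left_eq_zero.mp h1)
    refine ⟨(algebraMap A B n, ⟨algebraMap A B d, hd⟩), ?_⟩
    change z * algebraMap A Q d = algebraMap A Q n
    rw [← hnd, IsLocalization.mk'_spec]
  · intro x y h
    exact ⟨1, by rw [Subtype.ext h]⟩

theorem pullback_variesAlongCompleteDVR {X Y : Scheme.{u}} (π : Y ⟶ X) (f : PtFun X)
    (hf : f.VariesAlongCompleteDVR) : (f.pullback π).VariesAlongCompleteDVR := by
  intro R _ _ _ _ g
  obtain ⟨s, hs⟩ := hf R (g ≫ π)
  refine ⟨s, hs.trans ?_⟩
  funext y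
  simp only [PtFun.pullback]
  rw [Scheme.residueFieldMap_comp]
  rfl

section sn

variable {A : Type u} [CommRing A]

theorem key_mem {B : Type u} [CommRing B] [Algebra A B] (f : PtFun (Spec (CommRingCat.of A)))
    (b : B)
    (hb : ∀ y : Spec (CommRingCat.of B),
      (f.pullback (Spec.map (CommRingCat.ofHom (algebraMap A B)))) y = UH.ev y b)
    (y : Spec (CommRingCat.of B)) (x : Spec (CommRingCat.of A))
    (hxy : (Spec.map (CommRingCat.ofHom (algebraMap A B))) y = x)
    (r d : A) (hrd : f x * UH.ev x d = UH.ev x r) :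
    algebraMap A B d * b - algebraMap A B r ∈ y.asIdeal := by
  subst hxy
  have h1 := congrArg
    ((Spec.map (CommRingCat.ofHom (algebraMap A B))).residueFieldMap y).hom hrd
  rw [map_mul, UH.ev_naturality, UH.ev_naturality] at h1
  have h2 : ((Spec.map (CommRingCat.ofHom (algebraMap A B))).residueFieldMap y).hom
      (f ((Spec.map (CommRingCat.ofHom (algebraMap A B))) y)) = UH.ev y b := hb y
  rw [h2, ← map_mul, ← sub_eq_zero, ← map_sub, UH.ev_eq_zero_iff] at h1
  convert h1 using 1
  ring

theorem exists_point_over {B C : Type u} [CommRing B] [CommRing C] [Algebra B C]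
    [Algebra.IsIntegral B C] (hinj : Function.Injective (algebraMap B C))
    (q : PrimeSpectrum B) :
    ∃ y : PrimeSpectrum C, Ideal.comap (algebraMap B C) y.asIdeal = q.asIdeal := by
  obtain ⟨Q, -, hQ, hQc⟩ := Ideal.exists_ideal_over_prime_of_isIntegral q.asIdeal
    (⊥ : Ideal C) (by
      rw [← RingHom.ker_eq_comap_bot, (RingHom.injective_iff_ker_eq_bot _).mp hinj]
      exact bot_le)
  exact ⟨⟨Q, hQ⟩, hQc⟩

set_option maxHeartbeats 1600000 in
/-- Descent of the section from an integral reduced overring to a seminormal ring. -/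
theorem descend_of_isSeminormalRing (hA : HTop.IsSeminormalRing A)
    {B : Type u} [CommRing B] [Algebra A B] [IsReduced B] [Algebra.IsIntegral A B]
    (hinj : Function.Injective (algebraMap A B))
    (f : PtFun (Spec (CommRingCat.of A))) (b : B)
    (hb : ∀ y : Spec (CommRingCat.of B),
      (f.pullback (Spec.map (CommRingCat.ofHom (algebraMap A B)))) y = UH.ev y b) :
    ∃ a : A, ∀ x, f x = UH.ev x a := by
  classical
  let A' : Subalgebra A B := Algebra.adjoin A {b}
  let b' : A' := ⟨b, Algebra.subset_adjoin rfl⟩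
  let χ : A →+* A' := algebraMap A A'
  haveI : IsReduced A' := isReduced_of_injective (algebraMap A' B) Subtype.val_injective
  haveI : Algebra.IsIntegral A' B := Algebra.IsIntegral.tower_top (R := A) (S := A') (T := B)
  haveI : Algebra.IsIntegral A A' :=
    Algebra.IsIntegral.of_injective (A'.val) Subtype.val_injective
  have hinj' : Function.Injective (algebraMap A' B) := Subtype.val_injective
  have hχinj : Function.Injective χ := by
    intro t₁ t₂ h
    exact hinj (congrArg Subtype.val h)
  -- the core claim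
  have CC : ∀ (q' : PrimeSpectrum A') (x : Spec (CommRingCat.of A))
      (_ : Ideal.comap χ q'.asIdeal = x.asIdeal) (r d : A)
      (_ : f x * UH.ev x d = UH.ev x r), χ d * b' - χ r ∈ q'.asIdeal := by
    intro q' x hx r d hrd
    obtain ⟨ybar, hy⟩ := exists_point_over hinj' q'
    have hxy : (Spec.map (CommRingCat.ofHom (algebraMap A B)))
        (show Spec (CommRingCat.of B) from ybar) = x := by
      apply specMap_apply_eq
      rw [← hx, ← hy, Ideal.comap_comap]
      rfl
    have h1 := key_mem f b hb ybar x hxy r d hrd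
    rw [← hy, Ideal.mem_comap]
    exact h1
  have hU : UH.UHom χ := by
    refine ⟨algebraMap_isIntegral_iff.mpr inferInstance, ?_, ?_⟩
    · intro q
      obtain ⟨y, hy⟩ := exists_point_over (B := A) (C := A') hχinj q
      exact ⟨y, PrimeSpectrum.ext hy⟩
    · intro K _ g₁ g₂ h12
      let x : Spec (CommRingCat.of A) :=
        (⟨RingHom.ker (g₁.comp χ), RingHom.ker_isPrime _⟩ : PrimeSpectrum A)
      obtain ⟨r, d, hd, hrd⟩ := UH.ev_surj x (f x)
      have hc1 := CC ⟨RingHom.ker g₁, RingHom.ker_isPrime _⟩ x (by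
        change Ideal.comap χ (RingHom.ker g₁) = RingHom.ker (g₁.comp χ)
        rw [RingHom.comap_ker]) r d hrd
      have hc2 := CC ⟨RingHom.ker g₂, RingHom.ker_isPrime _⟩ x (by
        change Ideal.comap χ (RingHom.ker g₂) = RingHom.ker (g₁.comp χ)
        rw [RingHom.comap_ker, h12]) r d hrd
      have hd1 : g₁ (χ d) ≠ 0 := fun h => hd h
      have e1 : g₁ (χ d) * g₁ b' = g₁ (χ r) := by
        have : g₁ (χ d * b' - χ r) = 0 := hc1
        rwa [map_sub, map_mul, sub_eq_zero] at this
      have e2 : g₂ (χ d) * g₂ b' = g₂ (χ r) := by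
        have : g₂ (χ d * b' - χ r) = 0 := hc2
        rwa [map_sub, map_mul, sub_eq_zero] at this
      have e3 : ∀ t : A, g₂ (χ t) = g₁ (χ t) := fun t => (RingHom.congr_fun h12 t).symm
      rw [e3, e3, ← e1] at e2
      have hb12 : g₁ b' = g₂ b' := (mul_left_cancel₀ hd1 e2).symm
      ext ⟨c₀, hc₀⟩
      induction hc₀ using Algebra.adjoin_induction with
      | mem z hz =>
        obtain rfl : z = b := hz
        exact hb12
      | algebraMap t => exact (e3 t).symm
      | add z w hz hw h1 h2 =>
        have : (⟨z + w, add_mem hz hw⟩ : A') = ⟨z, hz⟩ + ⟨w, hw⟩ := rfl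
        rw [this, map_add, map_add, h1, h2]
      | mul z w hz hw h1 h2 =>
        have : (⟨z * w, mul_mem hz hw⟩ : A') = ⟨z, hz⟩ * ⟨w, hw⟩ := rfl
        rw [this, map_mul, map_mul, h1, h2]
  have hR : UH.RFTriv χ := by
    intro q' c
    let x : Spec (CommRingCat.of A) := PrimeSpectrum.comap χ q'
    obtain ⟨r, d, hd, hrd⟩ := UH.ev_surj x (f x)
    have hc := CC q' x rfl r d hrd
    obtain ⟨c₀, hc₀⟩ := c
    induction hc₀ using Algebra.adjoin_induction with
    | mem z hz =>
      obtain rfl : z = b := hz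
      exact ⟨r, d, hd, hc⟩
    | algebraMap t =>
      refine ⟨t, 1, ?_, ?_⟩
      · rw [map_one]
        exact q'.isPrime.one_notMem
      · have : χ 1 * (⟨algebraMap A B t, Subalgebra.algebraMap_mem _ t⟩ : A') - χ t = 0 := by
          rw [map_one, one_mul, sub_eq_zero]
          rfl
        rw [this]
        exact Ideal.zero_mem _
    | add z w hz hw h1 h2 =>
      obtain ⟨a₁, s₁, hs₁, hm₁⟩ := h1
      obtain ⟨a₂, s₂, hs₂, hm₂⟩ := h2
      refine ⟨s₂ * a₁ + s₁ * a₂, s₁ * s₂, ?_, ?_⟩
      · rw [map_mul]
        exact fun h => (q'.isPrime.mem_or_mem h).elim hs₁ hs₂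
      · have : χ (s₁ * s₂) * (⟨z + w, add_mem hz hw⟩ : A') - χ (s₂ * a₁ + s₁ * a₂) =
            χ s₂ * (χ s₁ * ⟨z, hz⟩ - χ a₁) + χ s₁ * (χ s₂ * ⟨w, hw⟩ - χ a₂) := by
          have : (⟨z + w, add_mem hz hw⟩ : A') = ⟨z, hz⟩ + ⟨w, hw⟩ := rfl
          rw [this, map_mul, map_add, map_mul, map_mul]
          ring
        rw [this]
        exact Ideal.add_mem _ (Ideal.mul_mem_left _ _ hm₁) (Ideal.mul_mem_left _ _ hm₂)
    | mul z w hz hw h1 h2 =>
      obtain ⟨a₁, s₁, hs₁, hm₁⟩ := h1
      obtain ⟨a₂, s₂, hs₂, hm₂⟩ := h2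
      refine ⟨a₁ * a₂, s₁ * s₂, ?_, ?_⟩
      · rw [map_mul]
        exact fun h => (q'.isPrime.mem_or_mem h).elim hs₁ hs₂
      · have : χ (s₁ * s₂) * (⟨z * w, mul_mem hz hw⟩ : A') - χ (a₁ * a₂) =
            (χ s₂ * ⟨w, hw⟩) * (χ s₁ * ⟨z, hz⟩ - χ a₁) + χ a₁ * (χ s₂ * ⟨w, hw⟩ - χ a₂) := by
          have : (⟨z * w, mul_mem hz hw⟩ : A') = ⟨z, hz⟩ * ⟨w, hw⟩ := rfl
          rw [this, map_mul, map_mul]
          ring
        rw [this]
        exact Ideal.add_mem _ (Ideal.mul_mem_left _ _ hm₁) (Ideal.mul_mem_left _ _ hm₂)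
  have hbij := Groth.Agent.Helper19.SNIso.bijective_of_isSeminormalRing χ hU hR hA
  obtain ⟨a, ha⟩ := hbij.2 b'
  have hab : algebraMap A B a = b := congrArg Subtype.val ha
  refine ⟨a, fun x => ?_⟩
  obtain ⟨xbar, hxbar⟩ := exists_point_over hinj (show PrimeSpectrum A from x)
  obtain ⟨r, d, hd, hrd⟩ := UH.ev_surj x (f x)
  have h1 := key_mem f b hb xbar x (specMap_apply_eq _ xbar x hxbar) r d hrd
  rw [← hab, ← map_mul, ← map_sub] at h1
  have h2 : d * a - r ∈ x.asIdeal := by
    rw [← hxbar, Ideal.mem_comap]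
    exact h1
  rw [← UH.ev_eq_zero_iff, map_sub, map_mul, sub_eq_zero, ← hrd, mul_comm] at h2
  have hd0 : UH.ev x d ≠ 0 := fun h => hd ((UH.ev_eq_zero_iff x d).mp h)
  exact (mul_right_cancel₀ hd0 h2).symm

set_option maxHeartbeats 800000 in
theorem exists_eq_ev_of_isSeminormalRing [IsNoetherianRing A] (hA : HTop.IsSeminormalRing A)
    (hfin : Module.Finite A (integralClosure A (FractionRing A)))
    (f : PtFun (Spec (CommRingCat.of A))) (hf : f.VariesAlongCompleteDVR) :
    ∃ a : A, ∀ x, f x = UH.ev x a := by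
  haveI : IsReduced A := UH.isReduced_of_isSeminormalRing hA
  haveI : IsNoetherianRing (integralClosure A (FractionRing A)) :=
    IsNoetherianRing.of_finite A (integralClosure A (FractionRing A))
  haveI : IsFractionRing (integralClosure A (FractionRing A)) (FractionRing A) :=
    isFractionRing_subalgebra _
  haveI : IsReduced (integralClosure A (FractionRing A)) :=
    isReduced_of_injective (algebraMap (integralClosure A (FractionRing A)) (FractionRing A))
      Subtype.val_injective
  haveI : IsIntegrallyClosed (integralClosure A (FractionRing A)) :=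
    (isIntegrallyClosed_iff_isIntegrallyClosedIn (FractionRing A)).mpr inferInstance
  obtain ⟨b, hb⟩ := exists_eq_ev
    (f.pullback (Spec.map (CommRingCat.ofHom
      (algebraMap A (integralClosure A (FractionRing A))))))
    (pullback_variesAlongCompleteDVR _ f hf)
  have hinj : Function.Injective (algebraMap A (integralClosure A (FractionRing A))) := by
    intro t₁ t₂ h
    exact IsFractionRing.injective A (FractionRing A) (congrArg Subtype.val h)
  exact descend_of_isSeminormalRing hA hinj f b hb

end sn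

end Groth.Agent.Helper19.PtFunK
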